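import Cfsg.Agent.Spor.Sub3
import Cfsg.Agent.Spor.HNP.L.Main
import Cfsg.Agent.Spor.HNB

set_option autoImplicit false
set_option maxRecDepth 100000

namespace Cfsg.Agent.Spor.HNP

/-- the permutation group -/
noncomputable abbrev P : Subgroup (Equiv.Perm ℕ) := gsub 3 fP
noncomputable abbrev p : ℕ → P := lift P fP

theorem lbP : 177408000 ∣ Nat.card P := by
  rw [P, L.eG]; exact L.lb

theorem bound : Bound 3 0 RL 177408000 := HNB.bound

theorem cardP : Nat.card P = 177408000 := Nat.dvd_antisymm (bound _ _ pres) lbP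

instance instFiniteP : Finite P := Nat.finite_of_card_ne_zero (by rw [cardP]; norm_num)

theorem presP : Pres 3 0 RL p := pres.lift

end Cfsg.Agent.Spor.HNP
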